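import Groth.Agent.Lib.CurveOpen32.Finite
import Groth.Agent.Lib.CurveH32.Pic
import Groth.Agent.Lib.CurveNF.Complete

/-!
# Cardinality of `H¹(ℤ/n)` of an affine open of a smooth proper curve
-/

set_option autoImplicit false
set_option linter.style.haveILetI false
set_option linter.unusedSectionVars false
set_option backward.isDefEq.respectTransparency.types false
set_option maxHeartbeats 1000000

universe u

open CategoryTheory CategoryTheory.Limits AlgebraicGeometry Opposite CategoryTheory.Abelian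

noncomputable section

namespace Groth.Agent.CurveExt19

open Groth.Agent CurveFin32 CurveOpen32

noncomputable local instance instLawCard19 (Y : Scheme.{u}) : PicGrp.Law Y := M2.law Y

variable {K : Type u} [Field K] [IsAlgClosed K]

/-- Over an algebraically closed field the roots of unity are constant. -/
theorem nonempty_mu_iso {Q : Scheme.{u}} (f : Q ⟶ Spec (CommRingCat.of K)) [IsIntegral Q] {n : ℕ} (hn : 1 ≤ n)
    (hnk : (n : K) ≠ 0) : Nonempty (EtCoh.mu Q n ≅ EtCoh.const Q (ZMod n)) := by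
  obtain ⟨z, hz⟩ := IsAlgClosed.exists_root (Polynomial.cyclotomic n K)
    (Polynomial.degree_cyclotomic_pos n K hn).ne'
  let φ : K →+* Γ(Q, ⊤) := ((Scheme.ΓSpecIso (CommRingCat.of K)).inv ≫ f.appTop).hom
  refine Kummer24.nonempty_mu_iso hn (isUnit_natCast f hnk) (φ z) ?_
  have h : (Polynomial.cyclotomic n Γ(Q, ⊤)).eval (φ z) = 0 := by
    rw [← Polynomial.map_cyclotomic n φ, Polynomial.eval_map, Polynomial.eval₂_hom, hz.eq_zero, map_zero]
  rw [← Polynomial.map_cyclotomic_int n, Polynomial.eval_map] at h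
  rw [Polynomial.aeval_def, algebraMap_int_eq]
  exact h

theorem card_H_of_iso {X : Scheme.{u}} {F G : EtCoh.Ab X} (e : F ≅ G) (q : ℕ) :
    Nat.card (EtCoh.H X F q) = Nat.card (EtCoh.H X G q) :=
  Nat.card_eq_of_bijective _ (EtAcyc24.bijective_comp_iso e q)

theorem card_H_const_iso {A B : Scheme.{u}} (e : A ⟶ B) [IsIso e] (M : Type) [AddCommGroup M] (q : ℕ) :
    Nat.card (EtCoh.H A (EtCoh.const A M) q) = Nat.card (EtCoh.H B (EtCoh.const B M) q) := by
  haveI := EtStalk.preservesFiniteLimits_pull e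
  rw [Nat.card_eq_of_bijective _ (LocAcyc24.bijective_Hpull_of_isIso e (EtCoh.const B M) q),
    card_H_of_iso (EtCore.pullConst e M) q]

/-- `H¹(μ_n)` of a smooth proper curve has `n ^ (2g)` elements. -/
theorem card_H1_mu_proper {Y : Scheme.{u}} [Y.Over (Spec (CommRingCat.of K))]
    [IsProper (Y ↘ Spec (CommRingCat.of K))] [Smooth (Y ↘ Spec (CommRingCat.of K))] [IsIntegral Y]
    (hdim : topologicalKrullDim Y = 1) {n : ℕ} (hn : 1 ≤ n) (hnk : (n : K) ≠ 0) :
    Nat.card (EtCoh.H Y (EtCoh.mu Y n) 1) = n ^ (2 * Curv2.genus K Y) := by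
  let f := Y ↘ Spec (CommRingCat.of K)
  haveI : CompactSpace Y := QuasiCompact.compactSpace_of_compactSpace f
  haveI : QuasiSeparatedSpace Y := quasiSeparatedSpace_of_quasiSeparated f
  haveI : NeZero n := ⟨by omega⟩
  rw [card_H1_mu (isUnit_natCast f hnk)]
  have h1 : nMul n (Additive Γ(Y, ⊤)ˣ) = ⊤ := by
    refine eq_top_iff.2 fun u _ => ?_
    obtain ⟨v, hv⟩ := (units_props f (show 0 < n by omega)).1 u.toMul
    exact ⟨Additive.ofMul v, congrArg Additive.ofMul hv⟩
  obtain ⟨t⟩ := (CurveH32.pic_structure K hdim (C := Y)).2 n hnk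
  have h2 : Nat.card (Additive Γ(Y, ⊤)ˣ ⧸ nMul n (Additive Γ(Y, ⊤)ˣ)) = 1 := by
    rw [h1]
    haveI : Subsingleton (Additive Γ(Y, ⊤)ˣ ⧸ (⊤ : AddSubgroup (Additive Γ(Y, ⊤)ˣ))) :=
      ⟨fun a b => Quotient.inductionOn₂' a b fun _ _ => QuotientAddGroup.eq.2 trivial⟩
    exact Nat.card_unique
  rw [h2, one_mul]
  refine (Nat.card_congr ?_).trans ((Nat.card_congr (t.toEquiv.trans Multiplicative.toAdd)).trans
    (by rw [Nat.card_fun, Nat.card_zmod, Nat.card_fin]))
  exact Additive.toMul.subtypeEquiv fun x => by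
    show n • x = 0 ↔ x.toMul ^ n = 1
    exact Iff.rfl

/-- Cardinality of `H¹(ℤ/n)` of an affine open of a smooth proper curve, relative to that of the curve. -/
theorem card_H1_affine_open {Y W : Scheme.{u}} (qY : Y ⟶ Spec (CommRingCat.of K)) [IsProper qY] [Smooth qY]
    [IsIntegral Y] (hdim : topologicalKrullDim Y = 1) (j : W ⟶ Y) [IsOpenImmersion j] [IsAffine W] [IsIntegral W]
    (hfin : ((Set.range j)ᶜ).Finite) {n : ℕ} (hn : 1 ≤ n) (hnk : (n : K) ≠ 0) :
    Nat.card (EtCoh.H W (EtCoh.const W (ZMod n)) 1) * n =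
      Nat.card (EtCoh.H Y (EtCoh.const Y (ZMod n)) 1) * n ^ Nat.card ↥((Set.range j)ᶜ) := by
  letI : Y.Over (Spec (CommRingCat.of K)) := ⟨qY⟩
  haveI : IsProper (Y ↘ Spec (CommRingCat.of K)) := ‹IsProper qY›
  haveI : Smooth (Y ↘ Spec (CommRingCat.of K)) := ‹Smooth qY›
  let V := j.opensRange
  haveI : IsAffine (V : Scheme.{u}) := .of_isIso j.isoOpensRange.inv
  have hV : (V : Set Y).Nonempty := ⟨j (genericPoint W), genericPoint W, rfl⟩
  haveI : Nonempty (V : Scheme.{u}) := ⟨⟨hV.some, hV.some_mem⟩⟩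
  haveI : IsIntegral (V : Scheme.{u}) := isIntegral_of_isOpenImmersion V.ι
  obtain ⟨μV⟩ := nonempty_mu_iso (V.ι ≫ qY) hn hnk
  obtain ⟨μY⟩ := nonempty_mu_iso qY hn hnk
  have hr : (V : Set Y) = Set.range j := rfl
  rw [card_H_const_iso j.isoOpensRange.hom (ZMod n) 1, ← card_H_of_iso μV 1, ← card_H_of_iso μY 1,
    card_H1_mu_proper hdim hn hnk, card_H1_open hdim V hV hfin hn hnk, hr]

end Groth.Agent.CurveExt19
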