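import Groth.Agent.Lib.CurveExt19.Card
import Groth.Agent.Lib.PBC24.FieldInv
import Groth.Agent.Lib.PBC24.Main
import Groth.Agent.Lib.EtAcyc24.LqfMain
import Groth.Agent.Lib.ASLef19.CI
import Groth.Agent.Lib.CubeField.Simple
import Groth.Agent.Lib.DimF18.Prod
import Groth.Agent.S0640

/-!
# Cohomology of curves under extensions of algebraically closed fields, prime to the characteristic
-/

set_option autoImplicit false
set_option linter.style.haveILetI false
set_option linter.unusedSectionVars false
set_option backward.isDefEq.respectTransparency.types false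
set_option maxHeartbeats 1000000

universe u

open CategoryTheory CategoryTheory.Limits AlgebraicGeometry Opposite CategoryTheory.Abelian

attribute [local instance] Abelian.hasFiniteBiproducts

noncomputable section

namespace Groth.Agent.CurveExt19

open Groth.Agent CurveFin32 CurveOpen32

noncomputable local instance instLawMain19 (Y : Scheme.{u}) : PicGrp.Law Y := M2.law Y

variable {k : Type u} [Field k] [IsAlgClosed k] {K : Type u} [Field K] [IsAlgClosed K] (φ : k →+* K)

/-- The primes invertible in `k`. -/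
def primesTo (k : Type u) [Field k] : Set ℕ := {p | (p : k) ≠ 0}

/-- Pullback to a field extension is injective on cohomology. -/
theorem injective_Hpull_ext {X : Scheme.{u}} (a : X ⟶ Spec (CommRingCat.of k)) [QuasiCompact a] [QuasiSeparated a]
    (F : EtCoh.Ab X) (n : ℕ)
    [PreservesFiniteLimits (EtCoh.pull (pullback.fst a (Spec.map (CommRingCat.ofHom φ))))] :
    Function.Injective (EtCore.Hpull (pullback.fst a (Spec.map (CommRingCat.ofHom φ))) F n) := by
  letI := φ.toAlgebra
  let S := PBC24.subalgSys (k := k) (K := K)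
  refine (injective_iff_map_eq_zero _).2 fun ξ hξ => ?_
  obtain ⟨i, hi⟩ := PBC24.exists_stage_Hpull_eq_zero a S F n ξ hξ
  obtain ⟨χ⟩ := PBC24.exists_point (k := k) (K := K) i.unop
  refine PBC24.eq_zero_of_Hpull_id (pullback.lift (𝟙 X) (a ≫ Spec.map (CommRingCat.ofHom χ.toRingHom)) ?_)
    (pullback.fst a (S.b i)) (pullback.lift_fst _ _ _) F ξ hi
  show _ = (a ≫ _) ≫ Spec.map (CommRingCat.ofHom (algebraMap k _))
  rw [Category.assoc, ← Spec.map_comp, Category.id_comp]
  refine (Category.comp_id a).symm.trans (congrArg (a ≫ ·) ((Spec.map_id _).symm.trans (congrArg Spec.map ?_)))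
  exact CommRingCat.hom_ext (RingHom.ext fun x => (χ.commutes x).symm)

theorem surjective_fst {X : Scheme.{u}} (f : X ⟶ Spec (CommRingCat.of k)) :
    Surjective (pullback.fst f (Spec.map (CommRingCat.ofHom φ))) :=
  MorphismProperty.pullback_fst _ _ ⟨fun _ => ⟨IsLocalRing.closedPoint K, Subsingleton.elim _ _⟩⟩

/-- Surjectivity on the base change of a scheme over `X` follows from that over the ground field. -/
theorem surjective_bridge {X Z : Scheme.{u}} (f : X ⟶ Spec (CommRingCat.of k)) (p : Z ⟶ X) (F : EtCoh.Ab Z) (q : ℕ)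
    [PreservesFiniteLimits (EtCoh.pull (pullback.fst (p ≫ f) (Spec.map (CommRingCat.ofHom φ))))]
    [PreservesFiniteLimits (EtCoh.pull (pullback.snd (pullback.fst f (Spec.map (CommRingCat.ofHom φ))) p))]
    (h : Function.Surjective (EtCore.Hpull (pullback.fst (p ≫ f) (Spec.map (CommRingCat.ofHom φ))) F q)) :
    Function.Surjective
      (EtCore.Hpull (pullback.snd (pullback.fst f (Spec.map (CommRingCat.ofHom φ))) p) F q) := by
  haveI hpl : ∀ {A B : Scheme.{u}} (g : A ⟶ B), PreservesFiniteLimits (EtCoh.pull g) :=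
    fun g => EtStalk.preservesFiniteLimits_pull g
  let σ := Spec.map (CommRingCat.ofHom φ)
  let g := pullback.fst f σ
  have sq : IsPullback (pullback.snd g p) (pullback.fst g p ≫ pullback.snd f σ) (p ≫ f) σ :=
    ((IsPullback.of_hasPullback g p).flip).paste_vert (IsPullback.of_hasPullback f σ)
  have he : sq.isoPullback.hom ≫ pullback.fst (p ≫ f) σ = pullback.snd g p := sq.isoPullback_hom_fst
  refine EtAcyc24.surjective_Hpull_congr he _ _ ?_
  rw [EtAcyc24.Hpull_comp_eq]
  exact (EtAcyc24.bijective_comp_iso _ q).2.comp ((LocAcyc24.bijective_Hpull_of_isIso _ _ q).2.comp h)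

/-- Surjectivity for constant coefficients of order invertible in `k`, on all curves. -/
def TestN (q : ℕ) : Prop :=
  ∀ (Z : Scheme.{u}) (f : Z ⟶ Spec (CommRingCat.of k)), IsSeparated f → LocallyOfFiniteType f → QuasiCompact f →
    topologicalKrullDim Z ≤ 1 → ∀ ℓ : ℕ, ℓ.Prime → (ℓ : k) ≠ 0 → ∀ ν : ℕ,
      letI := EtStalk.preservesFiniteLimits_pull (pullback.fst f (Spec.map (CommRingCat.ofHom φ)))
      Function.Surjective
        (EtCore.Hpull (pullback.fst f (Spec.map (CommRingCat.ofHom φ))) (EtCoh.const Z (ZMod (ℓ ^ ν))) q)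

/-- The comparison property from the test. -/
theorem compN_ext (n : ℕ) (hn : ∀ q, q ≤ n → TestN φ q) {X : Scheme.{u}} (f : X ⟶ Spec (CommRingCat.of k))
    [IsSeparated f] [LocallyOfFiniteType f] [QuasiCompact f] (hdim : topologicalKrullDim X ≤ 1)
    [PreservesFiniteLimits (EtCoh.pull (pullback.fst f (Spec.map (CommRingCat.ofHom φ))))] :
    EtAcyc.CompN (pullback.fst f (Spec.map (CommRingCat.ofHom φ))) (primesTo k) n := by
  haveI hpl : ∀ {A B : Scheme.{u}} (g : A ⟶ B), PreservesFiniteLimits (EtCoh.pull g) :=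
    fun g => EtStalk.preservesFiniteLimits_pull g
  haveI : CompactSpace X := QuasiCompact.compactSpace_of_compactSpace f
  haveI : QuasiSeparatedSpace X := quasiSeparatedSpace_of_quasiSeparated f
  haveI := surjective_fst φ f
  refine EtAcyc24.compN_of_test _ _ n ?_ (pullback.fst f (Spec.map (CommRingCat.ofHom φ))).surjective
  intro Z p _ _ ℓ hℓ hℓL ν _ q hq
  refine surjective_bridge φ f p _ q (hn q hq Z (p ≫ f) inferInstance inferInstance inferInstance ?_ ℓ hℓ hℓL ν)
  exact (H12.topologicalKrullDim_le_of_eq_of_specializes p p.continuous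
    fun _ _ h he => H12.eq_of_specializes_of_isIntegralHom p h he).trans hdim

theorem isIntegral_bc {X : Scheme.{u}} (f : X ⟶ Spec (CommRingCat.of k)) [IsIntegral X] :
    IsIntegral (pullback f (Spec.map (CommRingCat.ofHom φ))) := by
  haveI := CubeField.geometricallyIntegral_of_isIntegral f
  haveI : GeometricallyIntegral (pullback.snd f (Spec.map (CommRingCat.ofHom φ))) :=
    MorphismProperty.pullback_snd _ _ ‹GeometricallyIntegral f›
  exact GeometricallyIntegral.isIntegral_of_subsingleton (pullback.snd f (Spec.map (CommRingCat.ofHom φ)))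

theorem dim_bc {X : Scheme.{u}} (f : X ⟶ Spec (CommRingCat.of k)) [LocallyOfFiniteType f] [IsIntegral X] :
    topologicalKrullDim ↥(pullback f (Spec.map (CommRingCat.ofHom φ))) = topologicalKrullDim X := by
  let s := Spec.map (CommRingCat.ofHom φ)
  haveI := isIntegral_bc φ f
  have hT : (Set.univ : Set ↥(pullback f s)) ∈ irreducibleComponents ↥(pullback f s) :=
    ⟨IrreducibleSpace.isIrreducible_univ _, fun t _ _ => Set.subset_univ t⟩
  obtain ⟨Z, hZ, e⟩ := DimF18.exists_component_dim_bc (IsPullback.of_hasPullback f s) hT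
  have hZu : Z = Set.univ :=
    Set.Subset.antisymm (Set.subset_univ _) (hZ.2 (IrreducibleSpace.isIrreducible_univ _) (Set.subset_univ _))
  subst hZu
  rw [← IsHomeomorph.topologicalKrullDim_eq _ (Homeomorph.Set.univ ↥X).isHomeomorph, ← e]
  exact (IsHomeomorph.topologicalKrullDim_eq _ (Homeomorph.Set.univ ↥(pullback f s)).isHomeomorph).symm

/-- Closed points have a single point above them. -/
theorem eq_of_fst_eq_closed {Y : Scheme.{u}} (qY : Y ⟶ Spec (CommRingCat.of k)) [LocallyOfFiniteType qY]
    {y : Y} (hy : IsClosed ({y} : Set Y)) {a b : ↥(pullback qY (Spec.map (CommRingCat.ofHom φ)))}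
    (ha : pullback.fst qY (Spec.map (CommRingCat.ofHom φ)) a = y)
    (hb : pullback.fst qY (Spec.map (CommRingCat.ofHom φ)) b = y) : a = b := by
  let σ := Spec.map (CommRingCat.ofHom φ)
  let g := pullback.fst qY σ
  let s := pointOfClosedPoint qY y hy
  have sq : IsPullback (pullback.snd g s) (pullback.fst g s ≫ pullback.snd qY σ) (s ≫ qY) σ :=
    ((IsPullback.of_hasPullback g s).flip).paste_vert (IsPullback.of_hasPullback qY σ)
  haveI : IsIso (pullback.fst g s ≫ pullback.snd qY σ) :=
    MorphismProperty.of_isPullback (P := MorphismProperty.isomorphisms Scheme.{u}) sq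
      (by show IsIso (s ≫ qY); rw [pointOfClosedPoint_comp]; infer_instance)
  have hsub : ∀ z w : ↥(pullback g s), z = w := fun z w =>
    (Scheme.homeoOfIso (asIso (pullback.fst g s ≫ pullback.snd qY σ))).injective (Subsingleton.elim _ _)
  have hmem : ∀ c, g c = y → c ∈ Set.range (pullback.fst g s) := fun c hc => by
    rw [Scheme.Pullback.range_fst]
    exact ⟨IsLocalRing.closedPoint k, (pointOfClosedPoint_apply qY y hy _).trans hc.symm⟩
  obtain ⟨a', rfl⟩ := hmem a ha
  obtain ⟨b', rfl⟩ := hmem b hb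
  rw [hsub a' b']

/-- Members of a finite closed set of a scheme of finite type over a field are closed points. -/
theorem isClosed_singleton_of_finite {Y : Scheme.{u}} (qY : Y ⟶ Spec (CommRingCat.of k)) [LocallyOfFiniteType qY]
    {S : Set Y} (hS : IsClosed S) (hfin : S.Finite) {y : Y} (hy : y ∈ S) : IsClosed ({y} : Set Y) := by
  haveI : JacobsonSpace Y := LocallyOfFiniteType.jacobsonSpace qY
  have hcl : IsClosed (S ∩ closedPoints Y) := by
    rw [← Set.biUnion_of_singleton (S ∩ closedPoints Y)]
    exact (hfin.inter_of_left _).isClosed_biUnion fun x hx => hx.2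
  have h : y ∈ S ∩ closedPoints Y := by
    rw [← hcl.closure_eq, JacobsonSpace.closure_inter_closedPoints hS]
    exact hy
  exact h.2

/-- `H¹(ℤ/n)` of a normal affine curve: surjectivity. -/
theorem surjective_one_affine {W : Scheme.{u}} [IsAffine W] [IsIntegral W] (p : W ⟶ Spec (CommRingCat.of k))
    [LocallyOfFiniteType p] (hN : Pi1.IsNormalScheme W) (hd : topologicalKrullDim W = 1) {n : ℕ} (hn : 1 ≤ n)
    (hnk : (n : k) ≠ 0) [PreservesFiniteLimits (EtCoh.pull (pullback.fst p (Spec.map (CommRingCat.ofHom φ))))] :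
    Function.Surjective
      (EtCore.Hpull (pullback.fst p (Spec.map (CommRingCat.ofHom φ))) (EtCoh.const W (ZMod n)) 1) := by
  classical
  haveI hpl : ∀ {A B : Scheme.{u}} (g : A ⟶ B), PreservesFiniteLimits (EtCoh.pull g) :=
    fun g => EtStalk.preservesFiniteLimits_pull g
  haveI : QuasiCompact p := inferInstance
  let σ := Spec.map (CommRingCat.ofHom φ)
  have hnK : (n : K) ≠ 0 := fun h => hnk (φ.injective (by rw [map_natCast, map_zero]; exact h))
  obtain ⟨Y, hY, qY, j, hq, hj, hjq, hYN, hYX⟩ := CurveNF.exists_completion_integral p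
    (fun y hy => Curve17.ringKrullDim_stalk hd hy) hN
  haveI : IsLocallyNoetherian Y := LocallyOfFiniteType.isLocallyNoetherian qY
  haveI : LocallyOfFinitePresentation qY := inferInstance
  haveI hsm : Smooth qY := RegSmooth17.smooth_of_regular_of_perfectField qY fun y => by
    haveI := (hYN y).1
    haveI := (hYN y).2
    exact DVRVal.isRegularLocalRing_of_normal _ (DVRVal.ringKrullDim_stalk_le_one qY hYX y)
  have hdY : topologicalKrullDim Y = 1 := by
    rw [VarDim.topologicalKrullDim_eq_height_genericPoint, VarDim.height_eq_sdim qY,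
      (CurveNF.curve_iff_sdim_genericPoint qY).1 hYX]
    rfl
  have hfin : ((Set.range j)ᶜ).Finite :=
    CurveNF.finite_of_isClosed qY hYX j.isOpenEmbedding.isOpen_range.isClosed_compl fun h =>
      h (((genericPoint_spec Y).mem_open_set_iff j.isOpenEmbedding.isOpen_range).2
        ⟨j (genericPoint W), trivial, genericPoint W, rfl⟩)
  let W' := pullback p σ
  let Y' := pullback qY σ
  let q' := pullback.snd qY σ
  haveI : IsIntegral W' := isIntegral_bc φ p
  haveI : IsIntegral Y' := isIntegral_bc φ qY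
  haveI : IsProper q' := MorphismProperty.pullback_snd _ _ hq
  haveI : Smooth q' := MorphismProperty.pullback_snd _ _ hsm
  let j' : W' ⟶ Y' := pullback.lift (pullback.fst p σ ≫ j) (pullback.snd p σ)
    (by rw [Category.assoc, hjq]; exact pullback.condition)
  have sq : IsPullback (pullback.fst p σ) j' j (pullback.fst qY σ) :=
    IsPullback.of_bot (by rw [pullback.lift_snd, hjq]; exact IsPullback.of_hasPullback p σ)
      (pullback.lift_fst _ _ _).symm (IsPullback.of_hasPullback qY σ)
  haveI : IsOpenImmersion j' := MorphismProperty.of_isPullback sq hj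
  have hrange : (Set.range j')ᶜ = pullback.fst qY σ ⁻¹' (Set.range j)ᶜ := by
    have e : sq.flip.isoPullback.hom ≫ pullback.fst (pullback.fst qY σ) j = j' := sq.flip.isoPullback_hom_fst
    rw [Set.preimage_compl, ← Scheme.Pullback.range_fst, ← e, Scheme.Hom.comp_base, TopCat.coe_comp,
      Set.range_comp, Set.range_eq_univ.2 sq.flip.isoPullback.hom.surjective, Set.image_univ]
  let π : ↥((Set.range j')ᶜ) → ↥((Set.range j)ᶜ) := fun y =>
    ⟨pullback.fst qY σ y.1, (Set.ext_iff.1 hrange y.1).1 y.2⟩
  have hπ : Function.Bijective π := by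
    refine ⟨fun a b h => Subtype.ext (eq_of_fst_eq_closed φ qY
      (isClosed_singleton_of_finite qY j.isOpenEmbedding.isOpen_range.isClosed_compl hfin (π b).2)
      (congrArg Subtype.val h) rfl), fun y => ?_⟩
    obtain ⟨a, (ha : pullback.fst qY σ a = y.1)⟩ := (surjective_fst φ qY).surj y.1
    exact ⟨⟨a, (Set.ext_iff.1 hrange a).2 (show pullback.fst qY σ a ∈ (Set.range j)ᶜ by rw [ha]; exact y.2)⟩, Subtype.ext ha⟩
  haveI := hfin.to_subtype
  have hfin' : ((Set.range j')ᶜ).Finite := Set.finite_coe_iff.1 (Finite.of_injective π hπ.1)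
  have hW := card_H1_affine_open qY hdY j hfin hn hnk
  have hW' := card_H1_affine_open q' ((dim_bc φ qY).trans hdY) j' hfin' hn hnK
  have hYY' : Nat.card (EtCoh.H Y (EtCoh.const Y (ZMod n)) 1) = Nat.card (EtCoh.H Y' (EtCoh.const Y' (ZMod n)) 1) := by
    rw [Nat.card_eq_of_bijective _ (Groth.Agent.S0640.result k Y qY hdY.le (EtCoh.const Y (ZMod n))
      (FieldH25.isTorsion_of_nsmul_id_eq_zero _ (show 0 < n by omega) (EtAcyc24.nsmul_id_const Y n)) K φ 1),
      card_H_of_iso (EtCore.pullConst (pullback.fst qY σ) (ZMod n)) 1]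
  rw [← hYY', Nat.card_eq_of_bijective π hπ, ← hW] at hW'
  have hc : Nat.card (EtCoh.H W' (EtCoh.const W' (ZMod n)) 1) = Nat.card (EtCoh.H W (EtCoh.const W (ZMod n)) 1) :=
    Nat.eq_of_mul_eq_mul_right (show 0 < n by omega) hW'
  rw [← card_H_of_iso (EtCore.pullConst (pullback.fst p σ) (ZMod n)) 1] at hc
  have h0 : Nat.card (EtCoh.H W (EtCoh.const W (ZMod n)) 1) ≠ 0 := fun h => by
    letI : Y.Over (Spec (CommRingCat.of k)) := ⟨qY⟩
    haveI : IsProper (Y ↘ Spec (CommRingCat.of k)) := hq
    haveI : Smooth (Y ↘ Spec (CommRingCat.of k)) := hsm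
    obtain ⟨μY⟩ := nonempty_mu_iso qY hn hnk
    rw [h, zero_mul, ← card_H_of_iso μY 1, card_H1_mu_proper hdY hn hnk] at hW
    exact (Nat.mul_pos (pow_pos (by omega) _) (pow_pos (by omega) _)).ne hW
  haveI : Finite (EtCoh.H W' ((EtCoh.pull (pullback.fst p σ)).obj (EtCoh.const W (ZMod n))) 1) :=
    Nat.finite_of_card_ne_zero (by rw [hc]; exact h0)
  exact ((Nat.bijective_iff_injective_and_card _).2 ⟨injective_Hpull_ext φ p _ 1, hc.symm⟩).2

/-- Surjectivity for a normal integral curve. -/
theorem surjective_normal {W : Scheme.{u}} (p : W ⟶ Spec (CommRingCat.of k)) [IsSeparated p] [LocallyOfFiniteType p]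
    [QuasiCompact p] [IsIntegral W] (hN : Pi1.IsNormalScheme W) (hdim : topologicalKrullDim W ≤ 1) {n : ℕ}
    (hn : 1 ≤ n) (hnk : (n : k) ≠ 0) (q : ℕ)
    [PreservesFiniteLimits (EtCoh.pull (pullback.fst p (Spec.map (CommRingCat.ofHom φ))))] :
    Function.Surjective
      (EtCore.Hpull (pullback.fst p (Spec.map (CommRingCat.ofHom φ))) (EtCoh.const W (ZMod n)) q) := by
  haveI hpl : ∀ {A B : Scheme.{u}} (g : A ⟶ B), PreservesFiniteLimits (EtCoh.pull g) :=
    fun g => EtStalk.preservesFiniteLimits_pull g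
  have ht : EtCoh.IsTorsion (EtCoh.const W (ZMod n)) :=
    FieldH25.isTorsion_of_nsmul_id_eq_zero _ (show 0 < n by omega) (EtAcyc24.nsmul_id_const W n)
  have hprop : IsProper p → Function.Surjective
      (EtCore.Hpull (pullback.fst p (Spec.map (CommRingCat.ofHom φ))) (EtCoh.const W (ZMod n)) q) := fun h => by
    haveI := h
    exact (Groth.Agent.S0640.result k W p hdim _ ht K φ q).2
  by_cases h1 : topologicalKrullDim W = 1
  · letI : W.Over (Spec (CommRingCat.of k)) := ⟨p⟩
    haveI : IsSeparated (W ↘ Spec (CommRingCat.of k)) := ‹IsSeparated p›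
    haveI : LocallyOfFiniteType (W ↘ Spec (CommRingCat.of k)) := ‹LocallyOfFiniteType p›
    haveI : QuasiCompact (W ↘ Spec (CommRingCat.of k)) := ‹QuasiCompact p›
    rcases Groth.Agent.S1627.result k W h1 with h | ⟨d, c, hc, hc'⟩
    · haveI := h
      let σ := Spec.map (CommRingCat.ofHom φ)
      haveI : IsIntegral (pullback p σ) := isIntegral_bc φ p
      match q with
      | 0 => exact (ASLef19.bijective_Hpull_zero_connected _ (ZMod n)).2
      | 1 => exact surjective_one_affine φ p hN h1 hn hnk
      | q + 2 =>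
        haveI := Groth.Agent.S0204.result K (pullback p σ) (pullback.snd p σ) ((dim_bc φ p).trans h1).le
          ((EtCoh.pull (pullback.fst p σ)).obj (EtCoh.const W (ZMod n)))
          (PBC24.isTorsion_of_isLTorsion (EtAcyc24.isLTorsion_pull _ _ (PBC24.isLTorsion_univ ht))) (q + 2) (by omega)
        exact fun y => ⟨0, Subsingleton.elim _ _⟩
    · haveI := hc
      refine hprop ?_
      rw [show p = c ≫ CohB1.ProjSpace.toSpec d k from hc'.symm]
      infer_instance
  · refine hprop (isProper_of_dim_le_zero p ?_)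
    rcases lt_or_eq_of_le hdim with h | h
    · match hd : topologicalKrullDim W, h with
      | ⊥, _ => exact bot_le
      | (m : ℕ∞), h => exact WithBot.coe_le_coe.2 (Order.lt_one_iff.1 (WithBot.coe_lt_coe.1 h)).le
    · exact absurd h h1

theorem isLTorsion_nsmul {X : Scheme.{u}} {ℓ : ℕ} (hℓ : ℓ.Prime) (hk : (ℓ : k) ≠ 0) (ν : ℕ) {F : EtCoh.Ab X}
    (h : (ℓ ^ ν) • 𝟙 F = 0) : EtAcyc.IsLTorsion (primesTo k) F :=
  EtAcyc24.isLTorsion_of_nsmul _ ⟨pow_pos hℓ.pos ν, fun p hp hd => by
    rw [(Nat.prime_dvd_prime_iff_eq hp hℓ).1 (hp.dvd_of_dvd_pow hd)]; exact hk⟩ h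

/-- The test holds in every degree. -/
theorem testN (q : ℕ) : TestN φ q := by
  induction q using Nat.strong_induction_on with
  | _ q ih =>
    intro Z f hs hl hqc hdim ℓ hℓ hk ν
    classical
    haveI hpl : ∀ {A B : Scheme.{u}} (g : A ⟶ B), PreservesFiniteLimits (EtCoh.pull g) :=
      fun g => EtStalk.preservesFiniteLimits_pull g
    haveI := hs
    haveI := hl
    haveI := hqc
    haveI : IsLocallyNoetherian Z := LocallyOfFiniteType.isLocallyNoetherian f
    haveI : CompactSpace Z := QuasiCompact.compactSpace_of_compactSpace f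
    haveI : IsNoetherian Z := {}
    haveI : Finite (genericPoints Z) :=
      (genericPoints.finite (TopologicalSpace.NoetherianSpace.finite_irreducibleComponents)).to_subtype
    let m := Nat.card (genericPoints Z)
    let η : Fin m → Z := fun i => ((Finite.equivFin (genericPoints Z)).symm i).1
    haveI hI : ∀ i, IsIntegral (NumPoly18.ptIdeal (η i)).subscheme := fun i => (NumPoly18.isIntegral_pt (η i)).1
    let W : Fin m → Scheme.{u} := fun i => Curv2.normalization (NumPoly18.ptIdeal (η i)).subscheme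
    let g : ∀ i, W i ⟶ Z := fun i =>
      Curv2.normalizationι (NumPoly18.ptIdeal (η i)).subscheme ≫ (NumPoly18.ptIdeal (η i)).subschemeι
    have hprop : ∀ i, IsFinite (g i) ∧ (∀ x ∈ closure ({η i} : Set Z), x ∈ Set.range (g i)) ∧
        IsIntegral (W i) ∧ Pi1.IsNormalScheme (W i) := fun i => by
      let T := (NumPoly18.ptIdeal (η i)).subscheme
      letI : T.Over (Spec (CommRingCat.of k)) := ⟨(NumPoly18.ptIdeal (η i)).subschemeι ≫ f⟩
      haveI : LocallyOfFiniteType (T ↘ Spec (CommRingCat.of k)) :=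
        inferInstanceAs (LocallyOfFiniteType ((NumPoly18.ptIdeal (η i)).subschemeι ≫ f))
      obtain ⟨hfin, hdom, -, hint, hnor⟩ := Groth.Agent.S1585.result k T
      haveI : IsFinite (Curv2.normalizationι T) := hfin
      refine ⟨inferInstanceAs (IsFinite (Curv2.normalizationι T ≫ _)), fun x hx => ?_, hint, hnor⟩
      rw [← NumPoly18.range_ptι (η i)] at hx
      obtain ⟨z, rfl⟩ := hx
      have hsurj : Set.range (Curv2.normalizationι T) = Set.univ :=
        ((Curv2.normalizationι T).isClosedMap.isClosed_range).closure_eq ▸ hdom.denseRange.closure_range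
      obtain ⟨w, hw⟩ : z ∈ Set.range (Curv2.normalizationι T) := hsurj ▸ Set.mem_univ z
      exact ⟨w, by rw [Scheme.Hom.comp_apply, hw]⟩
    haveI : ∀ i, IsFinite (g i) := fun i => (hprop i).1
    have hcov : ∀ x : Z, ∃ i, x ∈ Set.range (g i) := fun x => by
      let γ := genericPoints.ofComponent
        (⟨irreducibleComponent x, irreducibleComponent_mem_irreducibleComponents x⟩ : irreducibleComponents Z)
      refine ⟨Finite.equivFin (genericPoints Z) γ, (hprop _).2.1 x ?_⟩
      simp only [η, Equiv.symm_apply_apply]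
      rw [(genericPoints.isGenericPoint_ofComponent _ : IsGenericPoint γ.1 _).def]
      exact mem_irreducibleComponent
    let M := ZMod (ℓ ^ ν)
    let F := EtCoh.const Z M
    have hm := mono_lift_units W g hcov F
    let P : Fin m → EtCoh.Ab Z := fun i => (EtCoh.push (g i)).obj (EtCoh.const (W i) M)
    let e : (⨁ fun i => (EtCoh.push (g i)).obj ((EtCoh.pull (g i)).obj F)) ≅ ⨁ P :=
      biproduct.mapIso fun i => (EtCoh.push (g i)).mapIso (EtCore.pullConst (g i) M)
    let v : F ⟶ ⨁ P := biproduct.lift (fun i => ((EtCoh.pullPushAdj (g i)).unit.app F :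
      F ⟶ (EtCoh.push (g i)).obj ((EtCoh.pull (g i)).obj F))) ≫ e.hom
    haveI : Mono v := @mono_comp _ _ _ _ _ _ hm e.hom inferInstance
    let G := pullback.fst f (Spec.map (CommRingCat.ofHom φ))
    have hE : Function.Surjective (EtCore.Hpull G (⨁ P) q) := by
      intro a
      have hs : ∀ i, ∃ x, EtCore.Hpull G (P i) q x =
          a.comp (Ext.mk₀ ((EtCoh.pull G).map (biproduct.π P i))) (add_zero q) := fun i => by
        haveI := (hprop i).2.2.1
        refine EtAcyc24.surjective_Hpull_push G (g i) _ q (surjective_bridge φ f (g i) _ q ?_) _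
        exact surjective_normal φ (g i ≫ f) (hprop i).2.2.2
          ((H12.topologicalKrullDim_le_of_eq_of_specializes (g i) (g i).continuous
            fun _ _ h he => H12.eq_of_specializes_of_isIntegralHom (g i) h he).trans hdim)
          (pow_pos hℓ.pos ν) (by rw [Nat.cast_pow]; exact pow_ne_zero _ hk) q
      choose x hx using hs
      refine ⟨∑ i, (x i).comp (Ext.mk₀ (biproduct.ι P i)) (add_zero q), ?_⟩
      haveI : (EtCoh.pull G).Additive := (EtCoh.pullPushAdj G).left_adjoint_additive
      rw [map_sum]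
      have hi : ∀ i, EtCore.Hpull G _ q ((x i).comp (Ext.mk₀ (biproduct.ι P i)) (add_zero q)) =
          a.comp (Ext.mk₀ ((EtCoh.pull G).map (biproduct.π P i ≫ biproduct.ι P i))) (add_zero q) := fun i => by
        rw [← LocAcyc24.Hpull_nat, hx i, Functor.map_comp, ← Ext.mk₀_comp_mk₀, Ext.comp_assoc_of_second_deg_zero]
      rw [Finset.sum_congr rfl fun i _ => hi i, ← Ext.comp_sum, ← Ext.mk₀_sum, ← Functor.map_sum, biproduct.total,
        CategoryTheory.Functor.map_id, Ext.comp_mk₀_id]
    refine EtAcyc24.surjective_of_embed G v q hE (injective_Hpull_ext φ f _ q) fun r hr => ?_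
    have hQ : EtAcyc.IsLTorsion (primesTo k) (cokernel v) :=
      EtAcyc24.isLTorsion_of_epi _ (cokernel.π v) (isLTorsion_nsmul hℓ hk ν
        (nsmul_id_biproduct_push W g _ fun i => EtAcyc24.nsmul_id_const (W i) (ℓ ^ ν)))
    exact ((compN_ext φ r (fun q' hq' => ih q' (by omega)) f hdim (cokernel v) hQ).1 r le_rfl).2

/-- Invariance of the cohomology of curves under extensions of algebraically closed fields, prime to the
characteristic. -/
theorem bijective_Hpull_curve {X : Scheme.{u}} (f : X ⟶ Spec (CommRingCat.of k)) [IsSeparated f]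
    [LocallyOfFiniteType f] [QuasiCompact f] (hdim : topologicalKrullDim X ≤ 1) (F : EtCoh.Ab X)
    (hF : EtPBC.IsTorsionInvertibleOn (Spec (CommRingCat.of k)) F)
    [PreservesFiniteLimits (EtCoh.pull (pullback.fst f (Spec.map (CommRingCat.ofHom φ))))] (q : ℕ) :
    Function.Bijective (EtCore.Hpull (pullback.fst f (Spec.map (CommRingCat.ofHom φ))) F q) := by
  refine ⟨injective_Hpull_ext φ f F q, ?_⟩
  have hL : EtAcyc.IsLTorsion (primesTo k) F := fun U s x => by
    obtain ⟨V, g, n, hv, hn, hs⟩ := hF U s x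
    have hnk : (n : k) ≠ 0 := fun h0 => by
      have h1 := hn.map (Scheme.ΓSpecIso (CommRingCat.of k)).hom.hom
      rw [map_natCast] at h1
      exact h1.ne_zero h0
    refine ⟨V, g, n, hv, ⟨Nat.pos_of_ne_zero fun h => hnk (by rw [h, Nat.cast_zero]), fun p _ hd h0 => hnk ?_⟩, hs⟩
    obtain ⟨c, rfl⟩ := hd
    rw [Nat.cast_mul, h0, zero_mul]
  exact ((compN_ext φ q (fun q' _ => testN φ q') f hdim F hL).1 q le_rfl).2

end Groth.Agent.CurveExt19
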